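import Mathlib.LinearAlgebra.Matrix.SpecialLinearGroup
import Mathlib.LinearAlgebra.Matrix.GeneralLinearGroup.Card
import Mathlib.LinearAlgebra.Matrix.GeneralLinearGroup.Defs
import Mathlib.NumberTheory.LegendreSymbol.QuadraticChar.Basic
import Mathlib.FieldTheory.Finite.Basic
import Mathlib.GroupTheory.Sylow
import Mathlib.LinearAlgebra.Matrix.ProjectiveSpecialLinearGroup
import Mathlib.Tactic

/-! Sylow 2-subgroups and involutions of `SL₂` and `PSL₂` in odd characteristic. -/

set_option autoImplicit false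

namespace CfsgLib.PSL2Two

open Matrix

variable {F : Type*} [Field F] [Fintype F]

local notation "L" => Matrix.SpecialLinearGroup (Fin 2) F
local notation "PL" => Matrix.ProjectiveSpecialLinearGroup (Fin 2) F

/-- The standard element of order 4. -/
def J : L := ⟨!![0, -1; 1, 0], by simp [Matrix.det_fin_two]⟩

/-- The special orthogonal group of the form `x² + y²`, as a subgroup of `SL₂`. -/
def rot (F : Type*) [Field F] [Fintype F] : Subgroup (Matrix.SpecialLinearGroup (Fin 2) F) where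
  carrier := {g | g.1 0 0 = g.1 1 1 ∧ g.1 0 1 = -g.1 1 0}
  one_mem' := by simp
  mul_mem' := by
    rintro g h ⟨g1, g2⟩ ⟨h1, h2⟩
    constructor <;> simp [Matrix.mul_apply, Fin.sum_univ_two, g1, g2, h1, h2] <;> ring
  inv_mem' := by
    rintro g ⟨g1, g2⟩
    constructor <;> simp [Matrix.SpecialLinearGroup.SL2_inv_expl, g1, g2]

section Basic

variable (hodd : Fintype.card F % 2 = 1)
include hodd

theorem two_ne : (2 : F) ≠ 0 := by
  intro h
  have h2 : ringChar F = 2 := by
    have hd : ringChar F ∣ 2 := (ringChar.spec F 2).mp (by exact_mod_cast h)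
    exact ((Nat.dvd_prime Nat.prime_two).mp hd).resolve_left CharP.ringChar_ne_one
  have := FiniteField.even_card_of_char_two h2
  omega

theorem exists_sq_add_sq (c : F) : ∃ u w : F, u ^ 2 + w ^ 2 = c := by
  obtain ⟨u, w, h⟩ := FiniteField.exists_root_sum_quadratic (f := (Polynomial.X ^ 2 : Polynomial F))
    (g := Polynomial.X ^ 2 - Polynomial.C c) (Polynomial.degree_X_pow 2)
    (Polynomial.degree_X_pow_sub_C (by norm_num) c) hodd
  exact ⟨u, w, by simpa [Polynomial.eval_sub, ← add_sub_assoc, sub_eq_zero] using h⟩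

omit hodd in
theorem entries (g : L) : g.1 0 0 * g.1 1 1 - g.1 0 1 * g.1 1 0 = 1 := by
  rw [← Matrix.det_fin_two]; exact g.2

omit hodd in
theorem mul_entry (g h : L) (i j : Fin 2) : (g * h).1 i j = g.1 i 0 * h.1 0 j + g.1 i 1 * h.1 1 j :=
  (Matrix.mul_apply (M := g.1) (N := h.1)).trans (Fin.sum_univ_two _)

omit hodd in
theorem ext2 {g h : L} (h00 : g.1 0 0 = h.1 0 0) (h01 : g.1 0 1 = h.1 0 1) (h10 : g.1 1 0 = h.1 1 0)
    (h11 : g.1 1 1 = h.1 1 1) : g = h := by
  apply Subtype.ext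
  ext i j
  fin_cases i <;> fin_cases j <;> assumption

/-- Square root of `-1`. -/
theorem sq_eq_neg_one_iff (g : L) : g ^ 2 = -1 ↔ g.1 0 0 + g.1 1 1 = 0 := by
  have hd := entries g
  constructor
  · intro h
    have h00 : (g ^ 2).1 0 0 = (-1 : L).1 0 0 := by rw [h]
    have h11 : (g ^ 2).1 1 1 = (-1 : L).1 1 1 := by rw [h]
    simp [sq, Matrix.mul_apply, Fin.sum_univ_two] at h00 h11
    have ht : (g.1 0 0 + g.1 1 1) * (g.1 0 0 + g.1 1 1) = 0 := by linear_combination h00 + h11 + 2 * hd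
    exact mul_self_eq_zero.mp ht
  · intro h
    have h11 : g.1 1 1 = -g.1 0 0 := by linear_combination h
    rw [h11] at hd
    apply ext2 <;> simp [sq, Matrix.mul_apply, Fin.sum_univ_two, h11]
    · linear_combination -hd
    · ring
    · ring
    · linear_combination -hd

theorem exists_conj_J (g : L) (ht : g.1 0 0 + g.1 1 1 = 0) : ∃ P : L, g * P = P * J := by
  have h2 := two_ne hodd
  have hd := entries g
  have h11 : g.1 1 1 = -g.1 0 0 := by linear_combination ht
  rw [h11] at hd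
  obtain ⟨v0, v1, hv⟩ : ∃ v0 v1 : F, g.1 1 0 * v0 ^ 2 - 2 * g.1 0 0 * v0 * v1 - g.1 0 1 * v1 ^ 2 = 1 := by
    rcases eq_or_ne (g.1 1 0) 0 with hc | hc
    · have ha : g.1 0 0 ≠ 0 := fun h => by simp [hc, h] at hd
      exact ⟨(-1 - g.1 0 1) / (2 * g.1 0 0), 1, by rw [hc]; field_simp; ring⟩
    · obtain ⟨u, w, huw⟩ := exists_sq_add_sq hodd (g.1 1 0)
      refine ⟨(u + g.1 0 0 * w) / g.1 1 0, w, ?_⟩
      field_simp
      linear_combination huw + w ^ 2 * hd
  let P : L := ⟨!![v0, g.1 0 0 * v0 + g.1 0 1 * v1; v1, g.1 1 0 * v0 - g.1 0 0 * v1],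
    by rw [Matrix.det_fin_two]; simp; linear_combination hv⟩
  refine ⟨P, ?_⟩
  have p00 : P.1 0 0 = v0 := rfl
  have p01 : P.1 0 1 = g.1 0 0 * v0 + g.1 0 1 * v1 := rfl
  have p10 : P.1 1 0 = v1 := rfl
  have p11 : P.1 1 1 = g.1 1 0 * v0 - g.1 0 0 * v1 := rfl
  apply ext2 <;> rw [mul_entry, mul_entry] <;> simp [J, h11, p00, p01, p10, p11]
  · linear_combination -v0 * hd
  · ring
  · linear_combination -v1 * hd

theorem isConj_of_sq_eq_neg_one {g h : L} (hg : g ^ 2 = -1) (hh : h ^ 2 = -1) : IsConj g h := by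
  obtain ⟨P, hP⟩ := exists_conj_J hodd g ((sq_eq_neg_one_iff hodd g).mp hg)
  obtain ⟨Q, hQ⟩ := exists_conj_J hodd h ((sq_eq_neg_one_iff hodd h).mp hh)
  rw [isConj_iff]
  refine ⟨Q * P⁻¹, ?_⟩
  calc Q * P⁻¹ * g * (Q * P⁻¹)⁻¹ = Q * P⁻¹ * (g * P) * Q⁻¹ := by group
    _ = h * Q * Q⁻¹ := by rw [hP, hQ]; group
    _ = h := by group

theorem neg_one_ne_one : (-1 : L) ≠ 1 := by
  intro h
  have := congrArg (fun g : L => g.1 0 0) h
  simp at this
  exact two_ne hodd (by linear_combination -this)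

omit hodd in
theorem mem_center' (g : L) : g ∈ Subgroup.center L ↔ g = 1 ∨ g = -1 := by
  rw [Matrix.SpecialLinearGroup.mem_center_iff]
  constructor
  · rintro ⟨r, hr, hrg⟩
    rw [Fintype.card_fin, sq_eq_one_iff] at hr
    rcases hr with rfl | rfl
    · left; exact Subtype.ext (by rw [← hrg]; simp)
    · right; exact Subtype.ext (by rw [← hrg, map_neg, map_one]; simp)
  · rintro (rfl | rfl)
    · exact ⟨1, one_pow _, by simp⟩
    · exact ⟨-1, by simp, by rw [map_neg, map_one]; simp⟩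

omit hodd in
theorem mk_eq_one (g : L) : (QuotientGroup.mk g : PL) = 1 ↔ g = 1 ∨ g = -1 :=
  (QuotientGroup.eq_one_iff g).trans (mem_center' g)

theorem sq_eq_neg_one_of_involution {g : L} (hg : orderOf (QuotientGroup.mk g : PL) = 2) : g ^ 2 = -1 := by
  have h1 : (QuotientGroup.mk (g ^ 2) : PL) = 1 := by
    have := pow_orderOf_eq_one (QuotientGroup.mk g : PL)
    rw [hg] at this
    exact this
  have h2 : g ≠ 1 ∧ g ≠ -1 := by
    rw [← not_or, ← mk_eq_one]
    intro h
    rw [h, orderOf_one] at hg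
    omega
  rcases (mk_eq_one _).mp h1 with h | h
  · exfalso
    have hd := entries g
    have e00 : (g ^ 2).1 0 0 = (1 : L).1 0 0 := by rw [h]
    have e01 : (g ^ 2).1 0 1 = (1 : L).1 0 1 := by rw [h]
    have e10 : (g ^ 2).1 1 0 = (1 : L).1 1 0 := by rw [h]
    have e11 : (g ^ 2).1 1 1 = (1 : L).1 1 1 := by rw [h]
    simp [sq, Matrix.mul_apply, Fin.sum_univ_two] at e00 e01 e10 e11
    have ht : (g.1 0 0 + g.1 1 1) * (g.1 0 0 + g.1 1 1) = 2 * 2 := by linear_combination e00 + e11 + 2 * hd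
    have h2' := two_ne hodd
    have hb : g.1 0 1 * (g.1 0 0 + g.1 1 1) = 0 := by linear_combination e01
    have hc : g.1 1 0 * (g.1 0 0 + g.1 1 1) = 0 := by linear_combination e10
    have hne : g.1 0 0 + g.1 1 1 ≠ 0 := fun h0 => by
      rw [h0, mul_zero] at ht; exact mul_ne_zero h2' h2' ht.symm
    have hb0 := (mul_eq_zero.mp hb).resolve_right hne
    have hc0 := (mul_eq_zero.mp hc).resolve_right hne
    rw [hb0, hc0] at e00 e11 hd
    simp at e00 e11 hd
    have hda : g.1 1 1 = g.1 0 0 := by linear_combination g.1 0 0 * hd - g.1 1 1 * e00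
    rcases mul_self_eq_one_iff.mp e00 with ha | ha
    · exact h2.1 (ext2 (by simp [ha]) (by simp [hb0]) (by simp [hc0]) (by simp [hda, ha]))
    · exact h2.2 (ext2 (by simp [ha]) (by simp [hb0]) (by simp [hc0]) (by simp [hda, ha]))
  · exact h

theorem isConj_involutions (x y : PL) (hx : orderOf x = 2) (hy : orderOf y = 2) : IsConj x y := by
  obtain ⟨g, rfl⟩ := QuotientGroup.mk_surjective x
  obtain ⟨h, rfl⟩ := QuotientGroup.mk_surjective y
  exact (QuotientGroup.mk' (Subgroup.center L)).map_isConj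
    (isConj_of_sq_eq_neg_one hodd (sq_eq_neg_one_of_involution hodd hx) (sq_eq_neg_one_of_involution hodd hy))

theorem rot_comm {g h : L} (hg : g ∈ rot F) (hh : h ∈ rot F) : g * h = h * g := by
  obtain ⟨g1, g2⟩ := hg; obtain ⟨h1, h2⟩ := hh
  apply ext2 <;> simp [Matrix.mul_apply, Fin.sum_univ_two, g1, g2, h1, h2] <;> ring

theorem rot_sq_eq_one {g : L} (hg : g ∈ rot F) (h : g ^ 2 = 1) : g = 1 ∨ g = -1 := by
  obtain ⟨g1, g2⟩ := hg
  have hd := entries g
  have e00 : (g ^ 2).1 0 0 = (1 : L).1 0 0 := by rw [h]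
  simp [sq, Matrix.mul_apply, Fin.sum_univ_two, g2] at e00
  rw [← g1, g2] at hd
  have hc : g.1 1 0 = 0 := mul_self_eq_zero.mp (mul_left_cancel₀ (two_ne hodd) (by linear_combination hd - e00))
  rw [hc] at hd g2
  simp at hd g2
  rcases mul_self_eq_one_iff.mp hd with ha | ha
  · left; exact ext2 (by simp [ha]) (by simp [g2]) (by simp [hc]) (by simp [← g1, ha])
  · right; exact ext2 (by simp [ha]) (by simp [g2]) (by simp [hc]) (by simp [← g1, ha])

theorem card_rot : Nat.card ↥(rot F) + Nat.card {t : F // t ^ 2 = -1} = Fintype.card F + 1 := by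
  classical
  have h2 := two_ne hodd
  let e : Option {t : F // ¬ t ^ 2 = -1} → ↥(rot F) := fun o => match o with
    | none => ⟨-1, by constructor <;> simp⟩
    | some t => ⟨⟨!![(1 - t.1 ^ 2) / (1 + t.1 ^ 2), -(2 * t.1 / (1 + t.1 ^ 2));
        2 * t.1 / (1 + t.1 ^ 2), (1 - t.1 ^ 2) / (1 + t.1 ^ 2)], by
        have : (1 : F) + t.1 ^ 2 ≠ 0 := fun h => t.2 (by linear_combination h)
        rw [Matrix.det_fin_two]; simp; field_simp; ring⟩, by constructor <;> simp⟩
  have hne : ∀ t : {t : F // ¬ t ^ 2 = -1}, (1 : F) + t.1 ^ 2 ≠ 0 := fun t h => t.2 (by linear_combination h)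
  have he : Function.Bijective e := by
    constructor
    · rintro (_ | s) (_ | t) hst
      · rfl
      · exfalso
        have := congrArg (fun g : ↥(rot F) => g.1.1 0 0) hst
        simp [e] at this
        rw [eq_div_iff (hne t)] at this
        exact h2 (by linear_combination -this)
      · exfalso
        have := congrArg (fun g : ↥(rot F) => g.1.1 0 0) hst
        simp [e] at this
        rw [div_eq_iff (hne s)] at this
        exact h2 (by linear_combination this)
      · have h00 := congrArg (fun g : ↥(rot F) => g.1.1 0 0) hst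
        have h10 := congrArg (fun g : ↥(rot F) => g.1.1 1 0) hst
        simp [e] at h00 h10
        have hs := hne s
        have ht := hne t
        field_simp at h00 h10
        congr 1
        apply Subtype.ext
        have hsq : s.1 ^ 2 = t.1 ^ 2 := mul_left_cancel₀ h2 (by linear_combination -h00)
        exact mul_left_cancel₀ ht (by linear_combination h10 + t.1 * hsq)
    · rintro ⟨g, g1, g2⟩
      have hd := entries g
      rw [← g1, g2] at hd
      by_cases hx : g.1 0 0 = -1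
      · refine ⟨none, Subtype.ext ?_⟩
        rw [hx] at hd
        have hc : g.1 1 0 = 0 := mul_self_eq_zero.mp (by linear_combination hd)
        apply ext2 <;> simp [e, hx, g2, hc, ← g1]
      · have h1 : 1 + g.1 0 0 ≠ 0 := fun h => hx (by linear_combination h)
        set t := g.1 1 0 / (1 + g.1 0 0) with ht
        have key : 1 + t ^ 2 = 2 / (1 + g.1 0 0) := by
          rw [ht]; field_simp; linear_combination hd
        have ht' : ¬ t ^ 2 = -1 := fun h => by
          rw [h, add_neg_cancel] at key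
          exact div_ne_zero h2 h1 key.symm
        refine ⟨some ⟨t, ht'⟩, Subtype.ext ?_⟩
        have e1 : (1 - t ^ 2) / (1 + t ^ 2) = g.1 0 0 := by
          rw [show 1 - t ^ 2 = 2 - (1 + t ^ 2) by ring, key]; field_simp; ring
        have e2 : 2 * t / (1 + t ^ 2) = g.1 1 0 := by
          rw [key, ht]; field_simp
        apply ext2 <;> simp [e, e1, e2, g2, ← g1]
  rw [← Nat.card_congr (Equiv.ofBijective e he), Finite.card_option,
    Nat.card_eq_fintype_card, Nat.card_eq_fintype_card, Fintype.card_subtype_compl]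
  have := Fintype.card_subtype_le (fun t : F => t ^ 2 = -1)
  omega

theorem card_sqrt_neg_one :
    Nat.card {t : F // t ^ 2 = -1} = if Fintype.card F % 4 = 1 then 2 else 0 := by
  classical
  split_ifs with h
  · obtain ⟨i, hi⟩ := FiniteField.isSquare_neg_one_iff.mpr (show Fintype.card F % 4 ≠ 3 by omega)
    have hi0 : i ≠ 0 := fun h0 => by simp [h0] at hi
    have hs : {t : F | t ^ 2 = -1} = {i, -i} := by
      ext t
      rw [Set.mem_ofPred_eq, Set.mem_insert_iff, Set.mem_singleton_iff, ← sq_eq_sq_iff_eq_or_eq_neg, sq i, ← hi]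
    have hne : i ≠ -i := fun h' => hi0 (mul_left_cancel₀ (two_ne hodd) (by linear_combination h'))
    calc Nat.card {t : F // t ^ 2 = -1} = ({t : F | t ^ 2 = -1} : Set F).ncard := Nat.card_coe_set_eq _
      _ = 2 := by rw [hs, Set.ncard_pair hne]
  · rw [Nat.card_eq_zero]; left
    refine ⟨fun ⟨t, ht⟩ => ?_⟩
    have : Fintype.card F % 4 ≠ 3 := FiniteField.isSquare_neg_one_iff.mp ⟨t, by rw [← sq, ht]⟩
    omega

theorem card_rot' :
    (Fintype.card F % 4 = 1 → Nat.card ↥(rot F) = Fintype.card F - 1) ∧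
      (Fintype.card F % 4 = 3 → Nat.card ↥(rot F) = Fintype.card F + 1) := by
  have h := card_rot hodd
  rw [card_sqrt_neg_one hodd] at h
  constructor <;> intro h' <;> simp [h'] at h <;> omega

theorem card_SL : Nat.card L = Fintype.card F * (Fintype.card F ^ 2 - 1) := by
  set q := Fintype.card F
  have hGL : Nat.card (GL (Fin 2) F) = (q ^ 2 - 1) * (q ^ 2 - q) := by
    rw [Matrix.card_GL_field, Fin.prod_univ_two]; simp [q]
  have hsurj : Function.Surjective (Matrix.GeneralLinearGroup.det : GL (Fin 2) F →* Fˣ) :=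
    Matrix.GeneralLinearGroup.det_surjective
  set det' := (Matrix.GeneralLinearGroup.det : GL (Fin 2) F →* Fˣ)
  have h1 : Nat.card ↥det'.ker * Nat.card Fˣ = Nat.card (GL (Fin 2) F) := by
    rw [← Subgroup.card_mul_index det'.ker, Subgroup.index_ker, MonoidHom.range_eq_top.mpr hsurj,
      Subgroup.card_top]
  have h2 : Nat.card ↥det'.ker = Nat.card L := by
    refine (Nat.card_congr (Equiv.ofBijective
      (fun g : L => (⟨Matrix.SpecialLinearGroup.toGL g, by
        rw [MonoidHom.mem_ker]; exact Units.ext g.2⟩ : ↥det'.ker)) ⟨?_, ?_⟩)).symm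
    · intro g h hgh
      exact Subtype.ext (congrArg (fun x : ↥det'.ker => ((x : GL (Fin 2) F) : Matrix (Fin 2) (Fin 2) F)) hgh)
    · rintro ⟨u, hu⟩
      exact ⟨⟨(u : Matrix (Fin 2) (Fin 2) F), congrArg Units.val (MonoidHom.mem_ker.mp hu)⟩,
        Subtype.ext (Units.ext rfl)⟩
  rw [h2, Nat.card_units, hGL, Nat.card_eq_fintype_card (α := F)] at h1
  have hq : 2 ≤ q := Fintype.one_lt_card
  refine Nat.eq_of_mul_eq_mul_right (show 0 < q - 1 by omega) ?_
  rw [h1, show q ^ 2 - q = q * (q - 1) by rw [sq, Nat.mul_sub, mul_one]]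
  ring

theorem card_center : Nat.card ↥(Subgroup.center L) = 2 := by
  have : ((Subgroup.center L : Subgroup L) : Set L) = {1, -1} := by
    ext g; simp [mem_center']
  calc Nat.card ↥(Subgroup.center L) = ((Subgroup.center L : Subgroup L) : Set L).ncard := Nat.card_coe_set_eq _
    _ = 2 := by rw [this, Set.ncard_pair (neg_one_ne_one (F := F) hodd).symm]

theorem two_mul_card_PSL : 2 * Nat.card PL = Fintype.card F * (Fintype.card F ^ 2 - 1) := by
  rw [← card_SL hodd, ← Subgroup.card_mul_index (Subgroup.center L), card_center hodd]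
  rfl

/-- The image in `PSL₂` of a dihedral Sylow 2-subgroup. -/
theorem exists_dihedral (k : ℕ) (hk : 2 ^ (k + 1) ∣ Nat.card ↥(rot F)) :
    ∃ a b : PL, orderOf a = 2 ^ k ∧ orderOf b = 2 ∧ b * a * b⁻¹ = a⁻¹ ∧ b ∉ Subgroup.zpowers a := by
  obtain ⟨A, hA, hAo⟩ : ∃ A ∈ rot F, orderOf A = 2 ^ (k + 1) := by
    haveI : Fact (Nat.Prime 2) := ⟨Nat.prime_two⟩
    obtain ⟨P, hP⟩ := Sylow.exists_subgroup_card_pow_prime 2 hk
    have hle : ∀ j : ℕ, {g : ↥P | g ^ 2 ^ j = 1}.ncard ≤ 2 ^ j := by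
      intro j
      induction j with
      | zero => simp
      | succ j ih =>
        rw [pow_succ, show 2 ^ j * 2 = 2 * 2 ^ j by ring]
        refine le_trans ?_ (Nat.mul_le_mul_left 2 ih)
        classical
        haveI := Fintype.ofFinite ↥P
        rw [Set.ncard_eq_toFinset_card', Set.ncard_eq_toFinset_card']
        refine Finset.card_le_mul_card_image_of_maps_to (f := fun g => g ^ 2) ?_ 2 ?_
        · intro g hg
          simp only [Set.mem_toFinset, Set.mem_ofPred_eq] at hg ⊢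
          rw [← pow_mul]; exact hg
        · intro y hy
          by_contra hcon
          rw [not_le] at hcon
          obtain ⟨x, hx⟩ := Finset.card_pos.mp (lt_trans (by norm_num : 0 < 2) hcon)
          have hsub : ∀ z ∈ ({x ∈ ({g : ↥P | g ^ (2 * 2 ^ j) = 1} : Set ↥P).toFinset | x ^ 2 = y} : Finset ↥P),
              (z : L) = (x : L) ∨ (z : L) = -(x : L) := by
            intro z hz
            rw [Finset.mem_filter] at hz hx
            have hzx : ((z : L) * (x : L)⁻¹) ^ 2 = 1 := by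
              rw [Commute.mul_pow (rot_comm hodd z.1.2
                ((rot F).inv_mem x.1.2)), inv_pow]
              have : ((z : L)) ^ 2 = (x : L) ^ 2 :=
                congrArg (fun w : ↥P => ((w : ↥(rot F)) : L)) (hz.2.trans hx.2.symm)
              rw [this, mul_inv_cancel]
            rcases rot_sq_eq_one hodd ((rot F).mul_mem z.1.2 ((rot F).inv_mem x.1.2)) hzx with h | h
            · exact Or.inl (mul_inv_eq_one.mp h)
            · right; rw [← neg_one_mul, ← h]; group
          refine absurd hcon (not_lt.mpr ?_)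
          refine le_trans (Finset.card_le_card_of_injOn (fun z => ((z : ↥(rot F)) : L))
            (t := {((x : ↥(rot F)) : L), -((x : ↥(rot F)) : L)}) ?_ ?_) Finset.card_le_two
          · intro z hz
            simpa using hsub z hz
          · intro z _ w _ h
            exact Subtype.ext (Subtype.ext h)
    obtain ⟨g, hg⟩ : ∃ g : ↥P, g ^ 2 ^ k ≠ 1 := by
      by_contra h
      push Not at h
      have h1 := hle k
      rw [show {g : ↥P | g ^ 2 ^ k = 1} = Set.univ from Set.eq_univ_of_forall h, Set.ncard_univ, hP] at h1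
      have := Nat.pow_lt_pow_right (show 1 < 2 by norm_num) (Nat.lt_succ_self k)
      omega
    refine ⟨((g : ↥(rot F)) : L), g.1.2, ?_⟩
    rw [Subgroup.orderOf_coe, Subgroup.orderOf_coe]
    refine orderOf_eq_prime_pow hg ?_
    rw [← hP]; exact pow_card_eq_one'
  obtain ⟨u, v, huv⟩ := exists_sq_add_sq hodd (-1 : F)
  let B : L := ⟨!![u, v; v, -u], by rw [Matrix.det_fin_two]; simp; linear_combination -huv⟩
  have hB2 : B ^ 2 = -1 := (sq_eq_neg_one_iff hodd B).mpr (by simp [B])
  have hBA : B * A * B⁻¹ = A⁻¹ := by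
    obtain ⟨a1, a2⟩ := hA
    have : B * A = A⁻¹ * B := by
      apply ext2 <;> rw [mul_entry, mul_entry] <;>
        simp [B, Matrix.SpecialLinearGroup.SL2_inv_expl, a1, a2] <;> ring
    rw [this, mul_inv_cancel_right]
  have hAk : A ^ 2 ^ k = -1 := by
    have h1 : A ^ 2 ^ k ≠ 1 := fun h => by
      have := Nat.le_of_dvd (by positivity) (hAo ▸ orderOf_dvd_of_pow_eq_one h)
      exact absurd this (not_le.mpr (Nat.pow_lt_pow_right (by norm_num) (Nat.lt_succ_self k)))
    refine (rot_sq_eq_one hodd ((rot F).pow_mem hA _) ?_).resolve_left h1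
    rw [← pow_mul, ← pow_succ, ← hAo, pow_orderOf_eq_one]
  refine ⟨QuotientGroup.mk A, QuotientGroup.mk B, ?_, ?_, ?_, ?_⟩
  · rcases k.eq_zero_or_pos with rfl | hk0
    · rw [pow_zero, orderOf_eq_one_iff, mk_eq_one]; right; simpa using hAk
    obtain ⟨j, rfl⟩ : ∃ j, k = j + 1 := ⟨k - 1, by omega⟩
    haveI : Fact (Nat.Prime 2) := ⟨Nat.prime_two⟩
    refine orderOf_eq_prime_pow ?_ ?_
    · rw [← QuotientGroup.mk_pow, mk_eq_one]
      intro h
      have h' : (A ^ 2 ^ j) ^ 2 = 1 := by rcases h with h | h <;> simp [h]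
      rw [← pow_mul, ← pow_succ, hAk] at h'
      exact neg_one_ne_one hodd h'
    · rw [← QuotientGroup.mk_pow, mk_eq_one]; exact Or.inr hAk
  · haveI : Fact (Nat.Prime 2) := ⟨Nat.prime_two⟩
    refine orderOf_eq_prime ?_ ?_
    · rw [← QuotientGroup.mk_pow, mk_eq_one]; exact Or.inr hB2
    · intro h
      rcases (mk_eq_one _).mp h with h | h <;> rw [h] at hB2 <;> simp at hB2 <;>
        exact neg_one_ne_one hodd hB2.symm
  · rw [← QuotientGroup.mk_inv, ← QuotientGroup.mk_mul, ← QuotientGroup.mk_mul, hBA, QuotientGroup.mk_inv]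
  · intro h
    obtain ⟨j, hj⟩ := Subgroup.mem_zpowers_iff.mp h
    rw [← QuotientGroup.mk_zpow, QuotientGroup.eq, mem_center'] at hj
    have hBr : B ∈ rot F := by
      rcases hj with hj | hj
      · rw [inv_mul_eq_one] at hj; exact hj ▸ (rot F).zpow_mem hA j
      · rw [inv_mul_eq_iff_eq_mul] at hj
        exact hj ▸ (rot F).mul_mem ((rot F).zpow_mem hA j) (by constructor <;> simp)
    obtain ⟨b1, b2⟩ := hBr
    simp [B] at b1 b2
    have hu : u = 0 := mul_left_cancel₀ (two_ne hodd) (by linear_combination b1)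
    have hv : v = 0 := mul_left_cancel₀ (two_ne hodd) (by linear_combination b2)
    rw [hu, hv] at huv
    simp at huv

end Basic

end CfsgLib.PSL2Two

namespace CfsgLib.PSL2Two

variable {F : Type*} [Field F] [Fintype F]

local notation "PL" => Matrix.ProjectiveSpecialLinearGroup (Fin 2) F

/-- Sylow 2-subgroups of `PSL₂(q)` are dihedral of order `2^(k+1)`, where `2^(k+1)` exactly divides `|SO₂(q)|`. -/
theorem sylow_dihedral (hodd : Fintype.card F % 2 = 1) (S : Sylow 2 PL) :
    ∃ (k : ℕ) (a b : PL), 1 ≤ k ∧ a ∈ (S : Subgroup PL) ∧ b ∈ (S : Subgroup PL) ∧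
      orderOf a = 2 ^ k ∧ orderOf b = 2 ∧ b * a * b⁻¹ = a⁻¹ ∧ b ∉ Subgroup.zpowers a ∧
      (∀ x ∈ (S : Subgroup PL), ∃ j : ℤ, x = a ^ j ∨ x = a ^ j * b) ∧
      (16 ∣ Fintype.card F ^ 2 - 1 → 2 ≤ k) := by
  haveI : Fact (Nat.Prime 2) := ⟨Nat.prime_two⟩
  set q := Fintype.card F with hq
  obtain ⟨h1, h3⟩ := card_rot' hodd
  have hq2 : 2 ≤ q := Fintype.one_lt_card
  have hrot : ∃ m, Nat.card ↥(rot F) = 4 * m ∧ ∃ r, r % 2 = 1 ∧ q ^ 2 - 1 = 4 * m * (2 * r) := by
    have hsq : q ^ 2 - 1 = (q + 1) * (q - 1) := by simpa using Nat.sq_sub_sq q 1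
    rcases (show q % 4 = 1 ∨ q % 4 = 3 by omega) with h | h
    · exact ⟨q / 4, by rw [h1 h]; omega, (q + 1) / 2, by omega, by
        rw [hsq, show 4 * (q / 4) = q - 1 by omega, show 2 * ((q + 1) / 2) = q + 1 by omega, mul_comm]⟩
    · exact ⟨(q + 1) / 4, by rw [h3 h]; omega, (q - 1) / 2, by omega, by
        rw [hsq, show 4 * ((q + 1) / 4) = q + 1 by omega, show 2 * ((q - 1) / 2) = q - 1 by omega]⟩
  obtain ⟨m, hm, r, hr, hmr⟩ := hrot
  have hm0 : m ≠ 0 := by
    rintro rfl
    exact absurd hm (Nat.card_pos (α := ↥(rot F))).ne'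
  obtain ⟨e, o, ho, hmo⟩ := Nat.exists_eq_pow_mul_and_not_dvd hm0 2 (by norm_num)
  have hrotdvd : 2 ^ (e + 1 + 1) ∣ Nat.card ↥(rot F) := ⟨o, by rw [hm, hmo]; ring⟩
  obtain ⟨a, b, ha, hb, hab, hba⟩ := exists_dihedral hodd (e + 1) hrotdvd
  have hn : b ∈ Subgroup.normalizer (Subgroup.zpowers a : Set PL) := by
    rw [Subgroup.mem_normalizer_iff_map_conj_eq, MonoidHom.map_zpowers]
    show Subgroup.zpowers (b * a * b⁻¹) = _
    rw [hab, Subgroup.zpowers_inv]
  have hnle : Subgroup.zpowers b ≤ Subgroup.normalizer (Subgroup.zpowers a : Set PL) :=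
    Subgroup.zpowers_le.mpr hn
  set D := Subgroup.zpowers a ⊔ Subgroup.zpowers b with hD
  have hbb : b ^ 2 = 1 := by
    have := pow_orderOf_eq_one b
    simp only [hb] at this
    exact this
  have hmem : ∀ x ∈ D, ∃ j : ℤ, x = a ^ j ∨ x = a ^ j * b := by
    intro x hx
    rw [← SetLike.mem_coe, hD, Subgroup.coe_mul_of_right_le_normalizer_left _ _ hnle] at hx
    obtain ⟨y, hy, z, hz, rfl⟩ := hx
    obtain ⟨j, rfl⟩ := Subgroup.mem_zpowers_iff.mp hy
    obtain ⟨i, rfl⟩ := Subgroup.mem_zpowers_iff.mp hz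
    rcases Int.even_or_odd i with ⟨c, rfl⟩ | ⟨c, rfl⟩
    · refine ⟨j, Or.inl ?_⟩
      show a ^ j * b ^ (c + c) = a ^ j
      rw [show c + c = ((2 : ℕ) : ℤ) * c by ring, zpow_mul, zpow_natCast, hbb, one_zpow, mul_one]
    · refine ⟨j, Or.inr ?_⟩
      show a ^ j * b ^ (2 * c + 1) = a ^ j * b
      rw [zpow_add, show 2 * c = ((2 : ℕ) : ℤ) * c by norm_num, zpow_mul, zpow_natCast, hbb, one_zpow, one_mul,
        zpow_one]
  have hcardD : Nat.card ↥D = 2 ^ (e + 1 + 1) := by
    have haD : a ∈ D := (le_sup_left : Subgroup.zpowers a ≤ D) (Subgroup.mem_zpowers a)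
    have hbD : b ∈ D := (le_sup_right : Subgroup.zpowers b ≤ D) (Subgroup.mem_zpowers b)
    have hbij : Function.Bijective (fun w : ↥(Subgroup.zpowers a) × Bool =>
        (⟨w.1.1 * (if w.2 then b else 1), D.mul_mem ((le_sup_left : Subgroup.zpowers a ≤ D) w.1.2)
          (by split_ifs; exacts [hbD, D.one_mem])⟩ : ↥D)) := by
      constructor
      · rintro ⟨⟨y, hy⟩, c⟩ ⟨⟨z, hz⟩, d⟩ h
        have h' : y * (if c then b else 1) = z * (if d then b else 1) := congrArg Subtype.val h
        rcases c <;> rcases d <;> simp at h'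
        · subst h'; rfl
        · exact absurd (by rw [show b = z⁻¹ * y by rw [h']; group]; exact mul_mem (inv_mem hz) hy) hba
        · exact absurd (by rw [show b = y⁻¹ * z by rw [← h']; group]; exact mul_mem (inv_mem hy) hz) hba
        · subst h'; rfl
      · rintro ⟨x, hx⟩
        obtain ⟨j, rfl | rfl⟩ := hmem x hx
        · exact ⟨⟨⟨_, j, rfl⟩, false⟩, Subtype.ext (by simp)⟩
        · exact ⟨⟨⟨_, j, rfl⟩, true⟩, Subtype.ext (by simp)⟩
    rw [← Nat.card_eq_of_bijective _ hbij, Nat.card_prod, Nat.card_zpowers, ha, pow_succ _ (e + 1)]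
    simp
  have hcardG : Nat.card PL = 2 ^ (e + 1 + 1) * (o * r * q) := by
    have h2 := two_mul_card_PSL hodd
    rw [← hq, hmr, hmo] at h2
    refine Nat.eq_of_mul_eq_mul_left (by norm_num : 0 < 2) ?_
    rw [h2]; ring
  have hnd : ¬ 2 ∣ o * r * q := by
    rw [Nat.Prime.dvd_mul Nat.prime_two, Nat.Prime.dvd_mul Nat.prime_two]
    omega
  have hp : IsPGroup 2 ↥D := IsPGroup.of_card hcardD
  have hidx : ¬ 2 ∣ D.index := by
    have := D.card_mul_index
    rw [hcardD, hcardG, Nat.mul_left_cancel_iff (by positivity)] at this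
    rwa [this]
  obtain ⟨g, hg⟩ := MulAction.exists_smul_eq PL (hp.toSylow hidx) S
  have hgS : ∀ x, x ∈ D → g * x * g⁻¹ ∈ (S : Subgroup PL) := by
    intro x hx
    rw [← hg]
    exact ⟨x, hx, rfl⟩
  refine ⟨e + 1, g * a * g⁻¹, g * b * g⁻¹, by omega, hgS a (le_sup_left (a := Subgroup.zpowers a) (Subgroup.mem_zpowers a)),
    hgS b (le_sup_right (b := Subgroup.zpowers b) (Subgroup.mem_zpowers b)), ?_, ?_, ?_, ?_, ?_, ?_⟩
  · exact (MulEquiv.orderOf_eq (MulAut.conj g) a).trans ha
  · exact (MulEquiv.orderOf_eq (MulAut.conj g) b).trans hb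
  · rw [show g * b * g⁻¹ * (g * a * g⁻¹) * (g * b * g⁻¹)⁻¹ = g * (b * a * b⁻¹) * g⁻¹ by group, hab]
    group
  · intro h
    obtain ⟨j, hj⟩ := Subgroup.mem_zpowers_iff.mp h
    rw [conj_zpow] at hj
    exact hba ⟨j, mul_left_cancel (mul_right_cancel hj)⟩
  · intro x hx
    rw [← hg] at hx
    obtain ⟨y, hy, rfl⟩ := hx
    obtain ⟨j, rfl | rfl⟩ := hmem y hy
    · exact ⟨j, Or.inl (by rw [conj_zpow]; rfl)⟩
    · refine ⟨j, Or.inr ?_⟩
      rw [conj_zpow]
      show g * (a ^ j * b) * g⁻¹ = _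
      group
  · intro h16
    rw [hmr, hmo] at h16
    by_contra hcon
    obtain rfl : e = 0 := by omega
    rw [pow_zero, one_mul, show 4 * o * (2 * r) = 8 * (o * r) by ring] at h16
    have : 2 ∣ o * r := Nat.dvd_of_mul_dvd_mul_left (show 0 < 8 by norm_num) h16
    rw [Nat.Prime.dvd_mul Nat.prime_two] at this
    omega

end CfsgLib.PSL2Two
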