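import Mathlib
import Cfsg.Agent.Lib.PSL2.Sylow2
import Cfsg.Agent.Lib.KleinNormalizer

/-! Involution centralisers and Klein four subgroups of `PSL₂(q)`, `q` odd. -/

set_option autoImplicit false

namespace CfsgLib.PSL2Klein

open CfsgLib.PSL2Two CfsgLib.KleinBasic

variable {F : Type*} [Field F] [Fintype F]

local notation "L" => Matrix.SpecialLinearGroup (Fin 2) F
local notation "PL" => Matrix.ProjectiveSpecialLinearGroup (Fin 2) F

/-- the projection -/
def π : L →* PL := QuotientGroup.mk' _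

theorem π_surj : Function.Surjective (π (F := F)) := QuotientGroup.mk_surjective

theorem π_eq_one (g : L) : π g = 1 ↔ g = 1 ∨ g = -1 := mk_eq_one g

theorem π_eq (g h : L) : π g = π h ↔ g = h ∨ g = -h := by
  rw [← inv_mul_eq_one, ← map_inv, ← map_mul, π_eq_one, inv_mul_eq_one, inv_mul_eq_iff_eq_mul, mul_neg, mul_one]
  constructor
  · rintro (h' | h')
    · exact Or.inl h'
    · exact Or.inr (by rw [h', neg_neg])
  · rintro (h' | h')
    · exact Or.inl h'
    · exact Or.inr (by rw [h', neg_neg])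

@[simp] theorem J00 : (J : L).1 0 0 = 0 := rfl
@[simp] theorem J01 : (J : L).1 0 1 = -1 := rfl
@[simp] theorem J10 : (J : L).1 1 0 = 1 := rfl
@[simp] theorem J11 : (J : L).1 1 1 = 0 := rfl

theorem inv00 (g : L) : (g⁻¹).1 0 0 = g.1 1 1 := by simp [Matrix.SpecialLinearGroup.SL2_inv_expl]
theorem inv01 (g : L) : (g⁻¹).1 0 1 = -g.1 0 1 := by simp [Matrix.SpecialLinearGroup.SL2_inv_expl]
theorem inv10 (g : L) : (g⁻¹).1 1 0 = -g.1 1 0 := by simp [Matrix.SpecialLinearGroup.SL2_inv_expl]
theorem inv11 (g : L) : (g⁻¹).1 1 1 = g.1 0 0 := by simp [Matrix.SpecialLinearGroup.SL2_inv_expl]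

theorem J_sq : (J : L) ^ 2 = -1 := by
  rw [sq]
  apply ext2 <;> simp [mul_entry]

theorem J_mem : (J : L) ∈ rot F := by constructor <;> simp

theorem neg_one_mem : (-1 : L) ∈ rot F := by constructor <;> simp

theorem comm_iff (g : L) (hodd : Fintype.card F % 2 = 1) : g * J = J * g ↔ g ∈ rot F := by
  have h2 := two_ne hodd
  constructor
  · intro h
    have e00 := congrArg (fun x : L => x.1 0 0) h
    have e01 := congrArg (fun x : L => x.1 0 1) h
    simp [mul_entry, Matrix.mul_apply, Fin.sum_univ_two] at e00 e01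
    first | exact ⟨e01, e00⟩ | exact ⟨by linear_combination -e01, e00⟩
  · intro h
    exact rot_comm hodd h J_mem

/-- the elements anticommuting with `J` -/
def anti (F : Type*) [Field F] [Fintype F] : Set (Matrix.SpecialLinearGroup (Fin 2) F) :=
  {g | g.1 1 1 = -g.1 0 0 ∧ g.1 0 1 = g.1 1 0}

theorem mem_anti_iff (g : L) (hodd : Fintype.card F % 2 = 1) : g ∈ anti F ↔ g * J = -(J * g) := by
  have h2 := two_ne hodd
  constructor
  · rintro ⟨h1, h2'⟩
    apply ext2 <;> simp [mul_entry, Matrix.mul_apply, Fin.sum_univ_two, h1, h2']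
  · intro h
    have e00 := congrArg (fun x : L => x.1 0 0) h
    have e01 := congrArg (fun x : L => x.1 0 1) h
    simp [mul_entry, Matrix.mul_apply, Fin.sum_univ_two] at e00 e01
    exact ⟨by linear_combination -e01, e00⟩

/-- the standard involution -/
noncomputable def x₀ : PL := π (F := F) J

/-- the normaliser of `⟨J⟩` in `SL₂` -/
def normJ : Subgroup L := (Subgroup.centralizer {x₀ (F := F)}).comap (π (F := F))

/-- the squares in the rotation group -/
def sqRot : Set L := {r | ∃ s ∈ rot F, s * s = r}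

/-- the involutions commuting with the standard one -/
def partners : Set PL := π '' anti F

section
variable (hodd : Fintype.card F % 2 = 1)
include hodd

theorem exists_anti : ∃ K : L, K ∈ anti F := by
  obtain ⟨u, v, huv⟩ := exists_sq_add_sq hodd (-1)
  refine ⟨⟨!![u, v; v, -u], ?_⟩, ?_⟩
  · rw [Matrix.det_fin_two]
    simp
    linear_combination -huv
  · constructor <;> simp

/-- the fixed element anticommuting with `J` -/
noncomputable def K₀ : L := (exists_anti hodd).choose

theorem K₀_mem : K₀ hodd ∈ anti F := (exists_anti hodd).choose_spec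

omit hodd in
theorem anti_sq {g : L} (hg : g ∈ anti F) (hodd : Fintype.card F % 2 = 1) : g ^ 2 = -1 :=
  (sq_eq_neg_one_iff hodd g).2 (by rw [hg.1, add_neg_cancel])

omit hodd in
theorem rot_mul_anti {r g : L} (hr : r ∈ rot F) (hg : g ∈ anti F) : r * g ∈ anti F := by
  obtain ⟨r1, r2⟩ := hr; obtain ⟨g1, g2⟩ := hg
  constructor <;> simp [mul_entry, ← r1, r2, g1, g2] <;> ring

omit hodd in
theorem anti_mul_inv {g k : L} (hg : g ∈ anti F) (hk : k ∈ anti F) : g * k⁻¹ ∈ rot F := by
  obtain ⟨g1, g2⟩ := hg; obtain ⟨k1, k2⟩ := hk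
  constructor <;> simp [mul_entry, inv00, inv01, inv10, inv11, g1, g2, k1, k2] <;>
    ring

omit hodd in
theorem anti_conj {r g : L} (hr : r ∈ rot F) (hg : g ∈ anti F) : g * r = r⁻¹ * g := by
  obtain ⟨r1, r2⟩ := hr; obtain ⟨g1, g2⟩ := hg
  apply ext2 <;> simp [mul_entry, inv00, inv01, inv10, inv11, ← r1, r2, g1, g2] <;>
    ring

theorem ncard_anti : (anti F).ncard = Nat.card (rot F) := by
  have h : anti F = (fun r => r * K₀ hodd) '' (rot F : Set L) := by
    ext g
    constructor
    · exact fun hg => ⟨g * (K₀ hodd)⁻¹, anti_mul_inv hg (K₀_mem hodd), inv_mul_cancel_right _ _⟩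
    · rintro ⟨r, hr, rfl⟩; exact rot_mul_anti hr (K₀_mem hodd)
  rw [h, Set.ncard_image_of_injective _ (mul_left_injective _)]
  exact (Nat.card_coe_set_eq _).symm

theorem not_rot_and_anti {g : L} (hr : g ∈ rot F) (ha : g ∈ anti F) : False := by
  have h := (comm_iff g hodd).2 hr
  rw [(mem_anti_iff g hodd).1 ha] at h
  have : (-1 : L) = 1 := mul_right_cancel (b := J * g) (by rw [one_mul, neg_one_mul]; exact h)
  exact neg_one_ne_one hodd this

theorem orderOf_π {g : L} : orderOf (π g) = 2 ↔ g ^ 2 = -1 := by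
  constructor
  · exact sq_eq_neg_one_of_involution hodd
  · intro h
    haveI : Fact (Nat.Prime 2) := ⟨Nat.prime_two⟩
    refine orderOf_eq_prime ?_ ?_
    · rw [← map_pow, π_eq_one]; exact Or.inr h
    · intro h1
      rcases (π_eq_one _).1 h1 with h1 | h1 <;> rw [h1] at h <;> simp at h <;>
        exact neg_one_ne_one hodd h.symm


theorem orderOf_x₀ : orderOf (x₀ (F := F)) = 2 := (orderOf_π hodd).2 J_sq

theorem commute_x₀ (g : L) : Commute (π g) (x₀) ↔ g ∈ rot F ∨ g ∈ anti F := by
  rw [← comm_iff g hodd, mem_anti_iff g hodd, Commute, SemiconjBy, x₀, ← map_mul, ← map_mul, π_eq]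


theorem mem_normJ (g : L) : g ∈ normJ ↔ g ∈ rot F ∨ g ∈ anti F := by
  rw [normJ, Subgroup.mem_comap, Subgroup.mem_centralizer_singleton_iff, ← commute_x₀ hodd]
  exact ⟨fun h => h, fun h => h⟩

theorem card_normJ : Nat.card (normJ (F := F)) = 2 * Nat.card (rot F) := by
  have h : ((normJ : Subgroup L) : Set L) = (rot F : Set L) ∪ anti F := by
    ext g; exact mem_normJ hodd g
  calc Nat.card (normJ (F := F)) = ((normJ : Subgroup L) : Set L).ncard := Nat.card_coe_set_eq _
    _ = (rot F : Set L).ncard + (anti F).ncard := by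
      rw [h]; exact Set.ncard_union_eq (Set.disjoint_left.2 fun g h1 h2 => not_rot_and_anti hodd h1 h2)
    _ = _ := by rw [ncard_anti hodd, two_mul]; rfl

theorem card_L : Nat.card L = 2 * Nat.card PL := by
  rw [← Subgroup.card_mul_index (Subgroup.center L), card_center hodd]; rfl

theorem card_centralizer : Nat.card (Subgroup.centralizer {x₀ (F := F)}) = Nat.card (rot F) := by
  have h : (normJ (F := F)).index = (Subgroup.centralizer {x₀ (F := F)}).index :=
    Subgroup.index_comap_of_surjective _ π_surj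
  have h1 := (normJ (F := F)).card_mul_index
  have h2 := (Subgroup.centralizer {x₀ (F := F)}).card_mul_index
  rw [card_normJ hodd, h, card_L hodd, ← h2, mul_assoc] at h1
  have h3 := Nat.eq_of_mul_eq_mul_left (by norm_num : 0 < 2) h1
  exact Nat.eq_of_mul_eq_mul_right (Nat.pos_of_ne_zero Subgroup.index_ne_zero_of_finite) h3.symm

theorem four_dvd_rot : 4 ∣ Nat.card (rot F) := by
  have hq := Fintype.one_lt_card (α := F)
  rcases (show Fintype.card F % 4 = 1 ∨ Fintype.card F % 4 = 3 by omega) with h | h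
  · rw [(card_rot' hodd).1 h]; omega
  · rw [(card_rot' hodd).2 h]; omega


omit hodd in
theorem mem_partners_iff (hodd : Fintype.card F % 2 = 1) (y : PL) :
    y ∈ partners ↔ orderOf y = 2 ∧ y ≠ x₀ ∧ Commute y (x₀) := by
  constructor
  · rintro ⟨g, hg, rfl⟩
    refine ⟨(orderOf_π hodd).2 (anti_sq hg hodd), ?_, (commute_x₀ hodd g).2 (Or.inr hg)⟩
    intro h
    rcases (π_eq _ _).1 h with h | h
    · exact not_rot_and_anti hodd J_mem (h ▸ hg)
    · exact not_rot_and_anti hodd (h ▸ (by constructor <;> simp : (-J : L) ∈ rot F)) hg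
  · rintro ⟨h1, h2, h3⟩
    obtain ⟨g, rfl⟩ := π_surj y
    refine ⟨g, ?_, rfl⟩
    rcases (commute_x₀ hodd g).1 h3 with hr | ha
    · exfalso
      apply h2
      have ht := (sq_eq_neg_one_iff hodd g).1 ((orderOf_π hodd).1 h1)
      have hd := entries g
      obtain ⟨g1, g2⟩ := hr
      have h00 : g.1 0 0 = 0 := mul_left_cancel₀ (two_ne hodd) (by linear_combination ht + g1)
      rw [← g1, h00, g2] at hd
      rw [x₀, π_eq]
      have hc : (g.1 1 0 - 1) * (g.1 1 0 + 1) = 0 := by linear_combination hd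
      rcases mul_eq_zero.1 hc with hc | hc
      · exact Or.inl (ext2 (by simp [h00]) (by simp [g2, sub_eq_zero.1 hc]) (by simp [sub_eq_zero.1 hc])
          (by simp [← g1, h00]))
      · exact Or.inr (ext2 (by simp [h00]) (by simp [g2, eq_neg_of_add_eq_zero_left hc])
          (by simp [eq_neg_of_add_eq_zero_left hc]) (by simp [← g1, h00]))
    · exact ha

theorem ncard_partners : 2 * (partners (F := F)).ncard = Nat.card (rot F) := by
  have h : (π : L → PL) ⁻¹' partners = anti F := by
    ext g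
    constructor
    · rintro ⟨a, ha, hag⟩
      rcases (π_eq _ _).1 hag with h | h
      · exact h ▸ ha
      · rw [h] at ha
        obtain ⟨h1, h2⟩ := ha
        simp at h1 h2
        exact ⟨by linear_combination -h1, by linear_combination h2⟩
    · exact fun hg => ⟨g, hg, rfl⟩
  have e := Nat.card_congr (QuotientGroup.preimageMkEquivSubgroupProdSet (Subgroup.center L) (partners (F := F)))
  rw [Nat.card_prod, card_center hodd, Nat.card_coe_set_eq, Nat.card_coe_set_eq] at e
  rw [← ncard_anti hodd, ← h]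
  exact e.symm

theorem exists_conj_x₀ {x : PL} (hx : orderOf x = 2) : ∃ g : PL, g * x * g⁻¹ = x₀ :=
  isConj_iff.1 (isConj_involutions hodd x _ hx (orderOf_x₀ hodd))

theorem ncard_involutions : {x : PL | orderOf x = 2}.ncard * Nat.card (rot F) = Nat.card PL := by
  have horb : MulAction.orbit (ConjAct PL) (x₀) = {x : PL | orderOf x = 2} := by
    ext x
    rw [ConjAct.mem_orbit_conjAct, Set.mem_ofPred_eq]
    constructor
    · intro h
      obtain ⟨c, hc⟩ := isConj_iff.1 h.symm
      rw [← hc]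
      exact (MulEquiv.orderOf_eq (MulAut.conj c) _).trans (orderOf_x₀ hodd)
    · intro h
      exact isConj_involutions hodd x _ h (orderOf_x₀ hodd)
  have hidx : (Subgroup.centralizer {x₀ (F := F)}).index = {x : PL | orderOf x = 2}.ncard := by
    rw [Subgroup.centralizer_eq_comap_stabilizer]
    exact (Subgroup.index_comap_of_surjective _ (ConjAct.toConjAct (G := PL)).surjective).trans
      ((MulAction.index_stabilizer _ _).trans (by rw [horb]))
  rw [← hidx, ← card_centralizer hodd, mul_comm, Subgroup.card_mul_index]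

theorem twelve_mul_klein : 12 * Nat.card {V : Subgroup PL // IsKleinFour V} = Nat.card PL := by
  classical
  haveI : Fintype PL := Fintype.ofFinite _
  haveI : Fintype {V : Subgroup PL // IsKleinFour V} := Fintype.ofFinite _
  let pairsOf : PL → Finset PL := fun x => {y | orderOf y = 2 ∧ y ≠ x ∧ Commute y x}
  have hpx : ∀ x : PL, orderOf x = 2 → 2 * (pairsOf x).card = Nat.card (rot F) := by
    intro x hx
    obtain ⟨g, hg⟩ := exists_conj_x₀ hodd hx
    rw [← ncard_partners hodd, ← Set.ncard_coe_finset]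
    congr 1
    rw [← Set.ncard_image_of_injective _ (MulAut.conj g).injective]
    congr 1
    ext y
    rw [mem_partners_iff hodd, Set.mem_image]
    simp only [pairsOf, Finset.coe_filter, Finset.mem_univ, true_and, Set.mem_ofPred_eq]
    constructor
    · rintro ⟨z, ⟨h1, h2, h3⟩, rfl⟩
      refine ⟨(MulEquiv.orderOf_eq (MulAut.conj g) _).trans h1, ?_, ?_⟩
      · rw [← hg]; exact fun h => h2 ((MulAut.conj g).injective h)
      · rw [← hg]; exact h3.map (MulAut.conj g)
    · rintro ⟨h1, h2, h3⟩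
      refine ⟨(MulAut.conj g).symm y, ⟨(MulEquiv.orderOf_eq (MulAut.conj g).symm _).trans h1, ?_, ?_⟩,
        (MulAut.conj g).apply_symm_apply y⟩
      · intro h
        apply h2
        rw [← hg, ← MulAut.conj_apply, ← h, MulEquiv.apply_symm_apply]
      · have := h3.map (MulAut.conj g).symm
        rwa [← hg, ← MulAut.conj_apply, MulEquiv.symm_apply_apply] at this
  let P : Finset (PL × PL) := {p | orderOf p.1 = 2 ∧ p.2 ∈ pairsOf p.1}
  have hP : 2 * P.card = Nat.card PL := by
    have : P.card = ∑ x ∈ ({x | orderOf x = 2} : Finset PL), (pairsOf x).card := by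
      rw [← Finset.card_sigma]
      exact Finset.card_bij (fun p _ => ⟨p.1, p.2⟩) (fun p hp => by simpa [P] using hp)
        (fun p _ q _ h => by cases p; cases q; simpa using h)
        (fun p hp => ⟨(p.1, p.2), by simpa [P] using hp, rfl⟩)
    rw [this, Finset.mul_sum, Finset.sum_congr rfl (fun x hx => hpx x (Finset.mem_filter.1 hx).2),
      Finset.sum_const, smul_eq_mul, ← ncard_involutions hodd, ← Set.ncard_coe_finset]
    congr 2
    ext; simp
  have hfib : ∀ V : {V : Subgroup PL // IsKleinFour V},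
      ({p ∈ P | Subgroup.closure {p.1, p.2} = V.1} : Finset (PL × PL)).card = 6 := by
    rintro ⟨V, hV⟩
    haveI := hV
    have heq : ({p ∈ P | Subgroup.closure {p.1, p.2} = V} : Finset (PL × PL)) =
        (({x | x ∈ V ∧ x ≠ 1} : Finset PL)).offDiag := by
      ext ⟨a, b⟩
      simp only [P, pairsOf, Finset.mem_filter, Finset.mem_univ, true_and, Finset.mem_offDiag]
      constructor
      · rintro ⟨⟨h1, h2, h3, _⟩, h5⟩
        refine ⟨⟨h5 ▸ Subgroup.subset_closure (by simp), fun h => ?_⟩,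
          ⟨h5 ▸ Subgroup.subset_closure (by simp), fun h => ?_⟩, h3.symm⟩
        · rw [h] at h1; simp at h1
        · rw [h] at h2; simp at h2
      · rintro ⟨⟨ha, ha1⟩, ⟨hb, hb1⟩, hne⟩
        exact ⟨⟨KleinNormalizer.orderOf_two hV ha ha1, KleinNormalizer.orderOf_two hV hb hb1, hne.symm,
          KleinNormalizer.commute hV hb ha⟩, (KleinNormalizer.eq_closure hV ha hb ha1 hb1 hne).symm⟩
    rw [heq, Finset.offDiag_card]
    have h3 : ({x | x ∈ V ∧ x ≠ 1} : Finset PL).card = 3 := by
      rw [← Set.ncard_coe_finset]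
      have h4 : (V : Set PL).ncard = 4 := (Nat.card_coe_set_eq _).symm.trans hV.card_four
      have : ((({x | x ∈ V ∧ x ≠ 1} : Finset PL)) : Set PL) = (V : Set PL) \ {1} := by ext; simp
      rw [this, Set.ncard_sdiff_singleton_of_mem V.one_mem, h4]
    rw [h3]
  have hmap : ∀ p ∈ P, IsKleinFour (Subgroup.closure {p.1, p.2} : Subgroup PL) := by
    intro p hp
    simp only [P, pairsOf, Finset.mem_filter, Finset.mem_univ, true_and] at hp
    obtain ⟨h1, h2, h3, h4⟩ := hp
    have ha1 : p.1 ≠ 1 := fun h => by rw [h] at h1; simp at h1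
    have hb1 : p.2 ≠ 1 := fun h => by rw [h] at h2; simp at h2
    have hsq : ∀ z : PL, orderOf z = 2 → z * z = 1 := fun z hz => by
      have := pow_orderOf_eq_one z
      rwa [hz, sq] at this
    obtain ⟨W, hW, haW, hbW, -⟩ := exists_klein p.1 p.2 (hsq _ h1) (hsq _ h2) h4.symm ha1 hb1 h3.symm
    rwa [← KleinNormalizer.eq_closure hW haW hbW ha1 hb1 h3.symm]
  have hsum : P.card = Nat.card {V : Subgroup PL // IsKleinFour V} * 6 := by
    let f : ↥P → {V : Subgroup PL // IsKleinFour V} := fun p => ⟨_, hmap p.1 p.2⟩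
    rw [← Finset.card_attach, Finset.card_eq_sum_card_fiberwise (f := f) (t := Finset.univ) (fun _ _ => Finset.mem_univ _),
      Nat.card_eq_fintype_card]
    rw [Finset.sum_congr rfl (g := fun _ => 6) ?_, Finset.sum_const, smul_eq_mul, Finset.card_univ]
    intro V _
    rw [← hfib V]
    refine Finset.card_bij (fun p _ => p.1) ?_ (fun p _ q _ h => Subtype.ext h) ?_
    · intro p hp
      exact Finset.mem_filter.2 ⟨p.2, congrArg Subtype.val (Finset.mem_filter.1 hp).2⟩
    · intro p hp
      exact ⟨⟨p, (Finset.mem_filter.1 hp).1⟩, Finset.mem_filter.2 ⟨Finset.mem_attach _ _,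
        Subtype.ext (Finset.mem_filter.1 hp).2⟩, rfl⟩
  omega


theorem sq_mul_of_not {r t : L} (hr : r ∈ rot F) (ht : t ∈ rot F) (hr' : r ∉ sqRot) (ht' : t ∉ sqRot) :
    r * t ∈ sqRot := by
  let φ : rot F →* rot F :=
    { toFun := fun s => s * s
      map_one' := by simp
      map_mul' := fun a b => by
        apply Subtype.ext
        show (a.1 * b.1) * (a.1 * b.1) = a.1 * a.1 * (b.1 * b.1)
        rw [mul_assoc a.1, ← mul_assoc b.1, rot_comm hodd b.2 a.2]
        simp only [mul_assoc] }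
  have hker : (φ.ker : Set (rot F)) = {1, ⟨-1, neg_one_mem⟩} := by
    ext s
    rw [SetLike.mem_coe, MonoidHom.mem_ker, Set.mem_insert_iff, Set.mem_singleton_iff]
    constructor
    · intro h
      rcases rot_sq_eq_one hodd s.2 (by rw [sq]; exact congrArg Subtype.val h) with h' | h'
      · exact Or.inl (Subtype.ext h')
      · exact Or.inr (Subtype.ext h')
    · rintro (rfl | rfl) <;> apply Subtype.ext <;> simp [φ]
  have hidx : φ.range.index = 2 := by
    have h1 := Subgroup.card_mul_index φ.range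
    have h2 := Subgroup.card_mul_index φ.ker
    rw [Subgroup.index_ker] at h2
    have h3 : Nat.card φ.ker = 2 := by
      have e : (1 : rot F) ≠ ⟨-1, neg_one_mem⟩ := fun h => neg_one_ne_one hodd (congrArg Subtype.val h).symm
      calc Nat.card φ.ker = (φ.ker : Set (rot F)).ncard := Nat.card_coe_set_eq _
        _ = 2 := by rw [hker, Set.ncard_pair e]
    rw [h3] at h2
    have h4 : Nat.card φ.range * φ.range.index = Nat.card φ.range * 2 := by rw [h1, ← h2, mul_comm]
    exact Nat.eq_of_mul_eq_mul_left Nat.card_pos h4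
  have mem : ∀ x : rot F, x ∈ φ.range ↔ x.1 ∈ sqRot := fun x =>
    ⟨fun ⟨s, hs⟩ => ⟨s.1, s.2, congrArg Subtype.val hs⟩, fun ⟨s, hs, h⟩ => ⟨⟨s, hs⟩, Subtype.ext h⟩⟩
  rw [← mem ⟨r, hr⟩] at hr'
  rw [← mem ⟨t, ht⟩] at ht'
  refine (mem (⟨r, hr⟩ * ⟨t, ht⟩)).1 ?_
  rw [Subgroup.mul_mem_iff_of_index_two hidx]
  exact iff_of_false hr' ht'

theorem sqRot_mul {r t : L} (hr : r ∈ sqRot) (ht : t ∈ sqRot) : r * t ∈ sqRot := by
  obtain ⟨a, ha, rfl⟩ := hr
  obtain ⟨b, hb, rfl⟩ := ht
  refine ⟨a * b, (rot F).mul_mem ha hb, ?_⟩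
  rw [mul_assoc a, ← mul_assoc b, rot_comm hodd hb ha]
  simp only [mul_assoc]

theorem sqRot_subset {r : L} (hr : r ∈ sqRot) : r ∈ rot F := by
  obtain ⟨a, ha, rfl⟩ := hr; exact (rot F).mul_mem ha ha

theorem sqRot_inv {r : L} (hr : r ∈ sqRot) : r⁻¹ ∈ sqRot := by
  obtain ⟨a, ha, rfl⟩ := hr
  exact ⟨a⁻¹, (rot F).inv_mem ha, (_root_.mul_inv_rev a a).symm⟩

theorem neg_one_sq : (-1 : L) ∈ sqRot := ⟨J, J_mem, by rw [← sq, J_sq]⟩

theorem sq_iff_of_mul {r t : L} (hr : r ∈ sqRot) : r * t ∈ sqRot ↔ t ∈ sqRot :=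
  ⟨fun h => by simpa [← mul_assoc] using sqRot_mul hodd (sqRot_inv hodd hr) h, sqRot_mul hodd hr⟩

theorem eight_dvd_iff : 8 ∣ Nat.card (rot F) ↔ (J : L) ∈ sqRot := by
  constructor
  · intro h
    haveI : Fact (Nat.Prime 2) := ⟨Nat.prime_two⟩
    obtain ⟨P, hP⟩ := Sylow.exists_subgroup_card_pow_prime 2 (n := 3) h
    by_contra hJ
    have hsub : ((P.map (rot F).subtype : Subgroup L) : Set L) ⊆ {1, -1, J, -J} := by
      rintro _ ⟨s, hs, rfl⟩
      have hs8 : (s : L) ^ 8 = 1 := by
        have := pow_card_eq_one' (x := (⟨s, hs⟩ : P))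
        rw [hP] at this
        exact congrArg (fun x : P => (x.1 : L)) this
      rw [Subgroup.subtype_apply]
      simp only [Set.mem_insert_iff, Set.mem_singleton_iff]
      rcases rot_sq_eq_one hodd ((rot F).pow_mem s.2 4) (by rw [← pow_mul]; exact hs8) with h4 | h4
      · rcases rot_sq_eq_one hodd ((rot F).pow_mem s.2 2) (by rw [← pow_mul]; exact h4) with h2 | h2
        · rcases rot_sq_eq_one hodd s.2 h2 with h1 | h1 <;> simp [h1]
        · have ho : orderOf (π (s : L)) = 2 := (orderOf_π hodd).2 h2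
          by_contra hc
          simp only [not_or] at hc
          have hm : π (s : L) ∈ partners := by
            rw [mem_partners_iff hodd]
            refine ⟨ho, fun h => ?_, (commute_x₀ hodd _).2 (Or.inl s.2)⟩
            rcases (π_eq _ _).1 h with h | h
            · exact hc.2.2.1 h
            · exact hc.2.2.2 h
          obtain ⟨a, ha, has⟩ := hm
          rcases (π_eq _ _).1 has with h | h
          · exact not_rot_and_anti hodd (h ▸ s.2) ha
          · exact not_rot_and_anti hodd (h ▸ (by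
              rw [← neg_one_mul]; exact (rot F).mul_mem neg_one_mem s.2 : (-(s : L)) ∈ rot F)) ha
      · exfalso
        -- `s ^ 2` squares to `-1`
        have hrot2 := (rot F).pow_mem s.2 2
        have ho : orderOf (π ((s : L) ^ 2)) = 2 := (orderOf_π hodd).2 (by rw [← pow_mul]; exact h4)
        by_cases hx : π ((s : L) ^ 2) = x₀
        · rcases (π_eq _ _).1 hx with h | h
          · exact hJ ⟨s, s.2, by rw [← sq]; exact h⟩
          · refine hJ ⟨(J : L) * (s : L), (rot F).mul_mem J_mem s.2, ?_⟩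
            rw [mul_assoc, ← mul_assoc (s : L), rot_comm hodd s.2 J_mem, mul_assoc J, ← sq (s : L), h,
              ← mul_assoc, ← sq J, J_sq]
            simp
        · have hm : π ((s : L) ^ 2) ∈ partners :=
            (mem_partners_iff hodd _).2 ⟨ho, hx, (commute_x₀ hodd _).2 (Or.inl hrot2)⟩
          obtain ⟨a, ha, has⟩ := hm
          rcases (π_eq _ _).1 has with h | h
          · exact not_rot_and_anti hodd (h ▸ hrot2) ha
          · exact not_rot_and_anti hodd (h ▸ (by
              rw [← neg_one_mul]; exact (rot F).mul_mem neg_one_mem hrot2 : (-((s : L) ^ 2)) ∈ rot F)) ha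
    have h1 := Set.ncard_le_ncard hsub (Set.toFinite _)
    have h2 : ((P.map (rot F).subtype : Subgroup L) : Set L).ncard = 8 := by
      rw [← Nat.card_coe_set_eq]
      exact (Subgroup.card_map_of_injective (rot F).subtype_injective).trans hP
    have h3 : ({1, -1, J, -J} : Set L).ncard ≤ 4 := by
      classical
      have := Finset.card_le_four (a := (1 : L)) (b := -1) (c := J) (d := -J)
      rw [← Set.ncard_coe_finset] at this
      simpa using this
    omega
  · rintro ⟨s, hs, hsJ⟩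
    have h8 : orderOf (⟨s, hs⟩ : rot F) = 2 ^ 3 := by
      haveI : Fact (Nat.Prime 2) := ⟨Nat.prime_two⟩
      refine orderOf_eq_prime_pow (fun h => ?_) ?_
      · have := congrArg Subtype.val h
        rw [Subgroup.coe_pow, show 2 ^ 2 = 2 * 2 from rfl, pow_mul, sq s, hsJ, J_sq, Subgroup.coe_one] at this
        exact neg_one_ne_one hodd this
      · apply Subtype.ext
        rw [Subgroup.coe_pow, show 2 ^ (2 + 1) = 2 * (2 * 2) from rfl, pow_mul, sq s, hsJ, pow_mul, J_sq]
        simp
    have := orderOf_dvd_natCard (⟨s, hs⟩ : rot F)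
    rwa [h8] at this

/-- a four group through the standard involution -/
def four (r : L) : Subgroup PL := Subgroup.closure {x₀, π (r * K₀ hodd)}

theorem partner_eq {y : PL} (hy : y ∈ partners) : ∃ r ∈ rot F, y = π (r * K₀ hodd) := by
  obtain ⟨a, ha, rfl⟩ := hy
  exact ⟨a * (K₀ hodd)⁻¹, anti_mul_inv ha (K₀_mem hodd), by rw [inv_mul_cancel_right]⟩

theorem four_isKlein {r : L} (hr : r ∈ rot F) :
    IsKleinFour (four hodd r) ∧ x₀ ∈ four hodd r ∧ π (r * K₀ hodd) ∈ four hodd r ∧
      x₀ (F := F) ≠ 1 ∧ π (r * K₀ hodd) ≠ 1 ∧ x₀ ≠ π (r * K₀ hodd) := by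
  obtain ⟨h1, h2, h3⟩ := (mem_partners_iff hodd _).1
    (⟨_, rot_mul_anti hr (K₀_mem hodd), rfl⟩ : π (r * K₀ hodd) ∈ partners)
  have hsq : ∀ z : PL, orderOf z = 2 → z * z = 1 := fun z hz => by
    have := pow_orderOf_eq_one z
    rwa [hz, sq] at this
  have ha1 : x₀ (F := F) ≠ 1 := fun h => by have := orderOf_x₀ hodd; rw [h] at this; simp at this
  have hb1 : π (r * K₀ hodd) ≠ 1 := fun h => by rw [h] at h1; simp at h1
  obtain ⟨W, hW, haW, hbW, -⟩ := exists_klein _ _ (hsq _ (orderOf_x₀ hodd)) (hsq _ h1) h3.symm ha1 hb1 h2.symm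
  have e : W = four hodd r := KleinNormalizer.eq_closure hW haW hbW ha1 hb1 h2.symm
  exact ⟨e ▸ hW, e ▸ haW, e ▸ hbW, ha1, hb1, h2.symm⟩

theorem x₀_mul (r : L) : x₀ * π (r * K₀ hodd) = π (J * r * K₀ hodd) := by
  rw [x₀, ← map_mul, mul_assoc]

theorem conj_rot {s r : L} (hs : s ∈ rot F) (hr : r ∈ rot F) :
    π s * π (r * K₀ hodd) * (π s)⁻¹ = π (s * s * r * K₀ hodd) := by
  rw [← map_inv, ← map_mul, ← map_mul]
  congr 1
  have h : K₀ hodd * s⁻¹ = s * K₀ hodd := by
    rw [anti_conj ((rot F).inv_mem hs) (K₀_mem hodd), inv_inv]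
  rw [mul_assoc s (r * _), mul_assoc r, h, ← mul_assoc r, rot_comm hodd hr hs]
  simp only [mul_assoc]

theorem class_iff {g : PL} {r t : L} (hr : r ∈ rot F) (ht : t ∈ rot F) (hgx : g * x₀ * g⁻¹ = x₀)
    (hg : g * π (r * K₀ hodd) * g⁻¹ = π (t * K₀ hodd)) : r ∈ sqRot ↔ t ∈ sqRot := by
  obtain ⟨a, rfl⟩ := π_surj g
  have hcom : Commute (π a) (x₀) := mul_inv_eq_iff_eq_mul.1 hgx
  have key : ∃ u ∈ sqRot, u * r = t ∨ u * r⁻¹ = t := by
    rcases (commute_x₀ hodd a).1 hcom with hs | ha
    · rw [conj_rot hodd hs hr, π_eq] at hg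
      rcases hg with h | h
      · exact ⟨_, ⟨a, hs, rfl⟩, Or.inl (mul_right_cancel h)⟩
      · refine ⟨-1 * (a * a), sqRot_mul hodd (neg_one_sq hodd) ⟨a, hs, rfl⟩, Or.inl ?_⟩
        rw [← neg_one_mul] at h
        apply mul_right_cancel (b := K₀ hodd)
        rw [mul_assoc (-1 : L) (a * a), mul_assoc (-1 : L), h, ← mul_assoc (-1 : L) (-1), neg_one_mul, neg_neg, one_mul]
    · obtain ⟨s, hs, rfl⟩ : ∃ s ∈ rot F, a = s * K₀ hodd :=
        ⟨a * (K₀ hodd)⁻¹, anti_mul_inv ha (K₀_mem hodd), by rw [inv_mul_cancel_right]⟩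
      have e : π (K₀ hodd) * π (r * K₀ hodd) * (π (K₀ hodd))⁻¹ = π (r⁻¹ * K₀ hodd) := by
        rw [← map_inv, ← map_mul, ← map_mul]
        congr 1
        rw [mul_assoc, mul_inv_cancel_right, anti_conj hr (K₀_mem hodd)]
      rw [map_mul, show π s * π (K₀ hodd) * π (r * K₀ hodd) * (π s * π (K₀ hodd))⁻¹ =
        π s * (π (K₀ hodd) * π (r * K₀ hodd) * (π (K₀ hodd))⁻¹) * (π s)⁻¹ by group, e,
        conj_rot hodd hs ((rot F).inv_mem hr), π_eq] at hg
      rcases hg with h | h
      · exact ⟨_, ⟨s, hs, rfl⟩, Or.inr (mul_right_cancel h)⟩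
      · refine ⟨-1 * (s * s), sqRot_mul hodd (neg_one_sq hodd) ⟨s, hs, rfl⟩, Or.inr ?_⟩
        rw [← neg_one_mul] at h
        apply mul_right_cancel (b := K₀ hodd)
        rw [mul_assoc (-1 : L) (s * s), mul_assoc (-1 : L), h, ← mul_assoc (-1 : L) (-1), neg_one_mul, neg_neg, one_mul]
  obtain ⟨u, hu, rfl | rfl⟩ := key
  · exact (sq_iff_of_mul hodd hu).symm
  · rw [sq_iff_of_mul hodd hu]
    exact ⟨sqRot_inv hodd, fun h => inv_inv r ▸ sqRot_inv hodd h⟩

theorem exists_conj_of_class {r t : L} (hr : r ∈ rot F) (ht : t ∈ rot F) (h : r ∈ sqRot ↔ t ∈ sqRot) :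
    ∃ g : PL, g * x₀ * g⁻¹ = x₀ ∧ g * π (r * K₀ hodd) * g⁻¹ = π (t * K₀ hodd) := by
  obtain ⟨s, hs, hst⟩ : t * r⁻¹ ∈ sqRot := by
    by_cases hsq : r ∈ sqRot
    · exact sqRot_mul hodd (h.1 hsq) (sqRot_inv hodd hsq)
    · exact sq_mul_of_not hodd ht ((rot F).inv_mem hr) (fun h' => hsq (h.2 h'))
        (fun h' => hsq (inv_inv r ▸ sqRot_inv hodd h'))
  refine ⟨π s, mul_inv_eq_iff_eq_mul.2 ((commute_x₀ hodd s).2 (Or.inl hs)), ?_⟩
  rw [conj_rot hodd hs hr, hst, inv_mul_cancel_right]

theorem map_four {g : PL} {r t : L} (hgx : g * x₀ * g⁻¹ = x₀)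
    (hg : g * π (r * K₀ hodd) * g⁻¹ = π (t * K₀ hodd)) :
    (four hodd r).map (MulAut.conj g).toMonoidHom = four hodd t := by
  rw [four, four, MonoidHom.map_closure, Set.image_pair]
  simp only [MulEquiv.coe_toMonoidHom, MulAut.conj_apply]
  show Subgroup.closure {g * x₀ * g⁻¹, g * π (r * K₀ hodd) * g⁻¹} = _
  rw [hgx, hg]

theorem exists_four {V : Subgroup PL} (hV : IsKleinFour V) :
    ∃ g : PL, ∃ r ∈ rot F, V.map (MulAut.conj g).toMonoidHom = four hodd r := by
  obtain ⟨a, b, ha, hb, ha1, hb1, hne, -⟩ := klein_gens V hV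
  obtain ⟨g, hg⟩ := exists_conj_x₀ hodd (KleinNormalizer.orderOf_two hV ha ha1)
  have hy : g * b * g⁻¹ ∈ partners := by
    rw [mem_partners_iff hodd, ← hg]
    exact ⟨(MulEquiv.orderOf_eq (MulAut.conj g) b).trans (KleinNormalizer.orderOf_two hV hb hb1),
      fun h => hne ((MulAut.conj g).injective h).symm, (KleinNormalizer.commute hV hb ha).map (MulAut.conj g)⟩
  obtain ⟨r, hr, hry⟩ := partner_eq hodd hy
  refine ⟨g, r, hr, ?_⟩
  rw [KleinNormalizer.eq_closure hV ha hb ha1 hb1 hne, four, MonoidHom.map_closure, Set.image_pair]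
  simp only [MulEquiv.coe_toMonoidHom, MulAut.conj_apply]
  show Subgroup.closure {g * a * g⁻¹, g * b * g⁻¹} = _
  rw [hg, hry]

/-- the element cycling the three involutions of a four group -/
theorem exists_cycle {r : L} (hr : r ∈ rot F) :
    ∃ w : PL, w * x₀ * w⁻¹ = π (r * K₀ hodd) ∧ w * π (r * K₀ hodd) * w⁻¹ = x₀ * π (r * K₀ hodd) := by
  set K := r * K₀ hodd with hK
  obtain ⟨k1, k2⟩ := rot_mul_anti hr (K₀_mem hodd)
  have hd := entries K
  have h2 := two_ne hodd
  rw [← hK] at k1 k2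
  rw [k1, k2] at hd
  set u := K.1 0 0
  set v := K.1 1 0
  let w : L := ⟨!![(1 + u - v) / 2, (-1 + u + v) / 2; (1 + u + v) / 2, (1 - u + v) / 2], by
    rw [Matrix.det_fin_two]
    simp
    field_simp
    linear_combination 2 * hd⟩
  have w00 : w.1 0 0 = (1 + u - v) / 2 := rfl
  have w01 : w.1 0 1 = (-1 + u + v) / 2 := rfl
  have w10 : w.1 1 0 = (1 + u + v) / 2 := rfl
  have w11 : w.1 1 1 = (1 - u + v) / 2 := rfl
  have h1 : w * J = K * w := by
    apply ext2 <;> rw [mul_entry, mul_entry] <;> simp only [w00, w01, w10, w11, k1, k2] <;> simp <;>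
      field_simp <;> first | linear_combination hd | linear_combination -hd | ring
  have h3 : w * K = J * K * w := by
    apply ext2 <;> simp only [mul_entry, w00, w01, w10, w11, k1, k2] <;> simp <;>
      field_simp <;> first | linear_combination hd | linear_combination -hd | ring
  refine ⟨π w, ?_, ?_⟩
  · rw [x₀, ← map_mul, h1, map_mul, mul_inv_cancel_right]
  · rw [x₀, ← map_mul, h3, map_mul, mul_inv_cancel_right, map_mul]

theorem centralizer_four {r : L} (hr : r ∈ rot F) {g : PL} (hgx : Commute g (x₀))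
    (hgy : Commute g (π (r * K₀ hodd))) : g ∈ four hodd r := by
  obtain ⟨hV, hx, hy, -, -, -⟩ := four_isKlein hodd hr
  have hrot : ∀ s ∈ rot F, Commute (π s) (π (r * K₀ hodd)) → π s ∈ four hodd r := by
    intro s hs hcom
    have h : π s * π (r * K₀ hodd) * (π s)⁻¹ = π (r * K₀ hodd) := mul_inv_eq_iff_eq_mul.2 hcom
    rw [conj_rot hodd hs hr, π_eq] at h
    rcases h with h | h
    · rcases rot_sq_eq_one hodd hs (by rw [sq]; exact mul_eq_right.1 (mul_right_cancel h)) with h' | h'
      · rw [h', map_one]; exact one_mem _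
      · rw [(π_eq_one s).2 (Or.inr h')]; exact one_mem _
    · have hs2 : s ^ 2 = -1 := by
        rw [← neg_one_mul, ← mul_assoc] at h
        rw [sq]; exact mul_right_cancel (mul_right_cancel h)
      by_cases hsx : π s = x₀
      · rw [hsx]; exact hx
      · obtain ⟨a, ha, has⟩ := (mem_partners_iff hodd _).2
          ⟨(orderOf_π hodd).2 hs2, hsx, (commute_x₀ hodd s).2 (Or.inl hs)⟩
        rcases (π_eq _ _).1 has with h | h
        · exact (not_rot_and_anti hodd (h ▸ hs) ha).elim
        · exact (not_rot_and_anti hodd (h ▸ (by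
            rw [← neg_one_mul]; exact (rot F).mul_mem neg_one_mem hs : (-s) ∈ rot F)) ha).elim
  obtain ⟨a, rfl⟩ := π_surj g
  rcases (commute_x₀ hodd a).1 hgx with hs | ha
  · exact hrot a hs hgy
  · have hs := anti_mul_inv ha (rot_mul_anti hr (K₀_mem hodd))
    have h := hrot _ hs (by
      rw [map_mul, map_inv]
      exact hgy.mul_left (Commute.refl _).inv_left)
    rw [map_mul, map_inv] at h
    have h' := (four hodd r).mul_mem h hy
    rwa [inv_mul_cancel_right] at h' 

theorem normalizer_four {r : L} (hr : r ∈ rot F) :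
    (∃ φ : ↥(Subgroup.normalizer (four hodd r : Set PL)) →* Equiv.Perm (Fin 4), Function.Injective φ) ∧
      (¬ 8 ∣ Nat.card (rot F) ∧ Nat.card ↥(Subgroup.normalizer (four hodd r : Set PL)) = 12 ∨
        8 ∣ Nat.card (rot F) ∧ Nat.card ↥(Subgroup.normalizer (four hodd r : Set PL)) = 24) := by
  obtain ⟨hV, hx, hy, ha1, hb1, hne⟩ := four_isKlein hodd hr
  obtain ⟨w, hw1, hw2⟩ := exists_cycle hodd hr
  obtain ⟨hφ, hcard⟩ := KleinNormalizer.main hV hx hy ha1 hb1 hne
    (fun g h1 h2 => centralizer_four hodd hr h1 h2) hw1 hw2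
  refine ⟨hφ, ?_⟩
  by_cases h8 : 8 ∣ Nat.card (rot F)
  · refine Or.inr ⟨h8, hcard.resolve_left ?_⟩
    rintro ⟨-, hno⟩
    have hJ := (eight_dvd_iff hodd).1 h8
    obtain ⟨g, hg1, hg2⟩ := exists_conj_of_class hodd hr ((rot F).mul_mem J_mem hr)
      (sq_iff_of_mul hodd hJ).symm
    exact hno g hg1 (by rw [hg2, x₀_mul hodd])
  · refine Or.inl ⟨h8, ?_⟩
    rcases hcard with ⟨h, -⟩ | h24
    · exact h
    exfalso
    obtain ⟨φ, hφi⟩ := hφ
    -- an element of the normaliser fixing `x₀` and moving the partner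
    set N := Subgroup.normalizer (four hodd r : Set PL)
    have hconj : ∀ n : N, ∀ v ∈ four hodd r, (n : PL) * v * (n : PL)⁻¹ ∈ four hodd r :=
      fun n v hv => (Subgroup.mem_normalizer_iff.1 n.2 v).1 hv
    have hdvd : 24 ≤ 4 * 3 := by
      have hle : (Subgroup.centralizer {x₀ (F := F)}).subgroupOf N ≤ (four hodd r).subgroupOf N := by
        intro n hn
        have hnx : Commute (n : PL) (x₀) :=
          Subgroup.mem_centralizer_singleton_iff.1 (Subgroup.mem_subgroupOf.1 hn)
        refine Subgroup.mem_subgroupOf.2 (centralizer_four hodd hr hnx ?_)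
        rcases mem_cases hV hx hy ha1 hb1 hne (hconj n _ hy) with h | h | h | h
        · exact absurd (conj_eq_one_iff.1 h) hb1
        · exact absurd ((MulAut.conj (n : PL)).injective (h.trans (mul_inv_eq_iff_eq_mul.2 hnx).symm)) hne.symm
        · exact mul_inv_eq_iff_eq_mul.1 h
        · exfalso
          rw [x₀_mul hodd] at h
          have := class_iff hodd hr ((rot F).mul_mem J_mem hr) (mul_inv_eq_iff_eq_mul.2 hnx) h
          refine h8 ((eight_dvd_iff hodd).2 ?_)
          by_cases hsq : r ∈ sqRot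
          · have := sqRot_mul hodd (this.1 hsq) (sqRot_inv hodd hsq)
            rwa [mul_inv_cancel_right] at this
          · have := sq_mul_of_not hodd ((rot F).mul_mem J_mem hr) ((rot F).inv_mem hr) (fun h => hsq (this.2 h))
              (fun h => hsq (inv_inv r ▸ sqRot_inv hodd h))
            rwa [mul_inv_cancel_right] at this
      have h1 : Nat.card ((Subgroup.centralizer {x₀ (F := F)}).subgroupOf N) ≤ 4 := by
        refine le_trans (Nat.le_of_dvd Nat.card_pos (Subgroup.card_dvd_of_le hle)) ?_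
        rw [Nat.card_congr (Subgroup.subgroupOfEquivOfLe Subgroup.le_normalizer).toEquiv, hV.card_four]
      -- the orbit of `x₀` lies in the three involutions
      letI : MulAction N PL := MulAction.compHom PL (ConjAct.toConjAct.toMonoidHom.comp N.subtype)
      have hst : MulAction.stabilizer N (x₀ (F := F)) = (Subgroup.centralizer {x₀ (F := F)}).subgroupOf N := by
        ext n
        rw [MulAction.mem_stabilizer_iff, Subgroup.mem_subgroupOf, Subgroup.mem_centralizer_singleton_iff]
        show (n : PL) * x₀ * (n : PL)⁻¹ = x₀ ↔ _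
        rw [mul_inv_eq_iff_eq_mul]
      have h2 : (MulAction.stabilizer N (x₀ (F := F))).index ≤ 3 := by
        rw [MulAction.index_stabilizer]
        have h4 : (four hodd r : Set PL).ncard = 4 := (Nat.card_coe_set_eq _).symm.trans hV.card_four
        refine le_trans (Set.ncard_le_ncard (t := (four hodd r : Set PL) \ {1}) ?_) ?_
        · rintro _ ⟨n, rfl⟩
          exact ⟨hconj n _ hx, fun h => ha1 (conj_eq_one_iff.1 h)⟩
        · rw [Set.ncard_sdiff_singleton_of_mem (one_mem _), h4]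
      rw [← h24, ← (MulAction.stabilizer N (x₀ (F := F))).card_mul_index, hst]
      exact Nat.mul_le_mul h1 (hst ▸ h2)
    norm_num at hdvd

theorem eight_dvd_rot_iff : 8 ∣ Nat.card (rot F) ↔ (Fintype.card F % 8 = 1 ∨ Fintype.card F % 8 = 7) := by
  have := Fintype.one_lt_card (α := F)
  rcases (show Fintype.card F % 4 = 1 ∨ Fintype.card F % 4 = 3 by omega) with h | h
  · rw [(card_rot' hodd).1 h]; omega
  · rw [(card_rot' hodd).2 h]; omega

end

end CfsgLib.PSL2Klein
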