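import Mathlib
import Cfsg.Agent.Lib.PSL2.Klein

/-! Conjugacy of Klein four subgroups of `PSL₂(q)`. -/

set_option autoImplicit false

namespace CfsgLib.PSL2Klein

open CfsgLib.PSL2Two CfsgLib.KleinBasic

variable {F : Type*} [Field F] [Fintype F]

local notation "L" => Matrix.SpecialLinearGroup (Fin 2) F
local notation "PL" => Matrix.ProjectiveSpecialLinearGroup (Fin 2) F

theorem map_conj_mul {G : Type*} [Group G] (V : Subgroup G) (g h : G) :
    (V.map (MulAut.conj g).toMonoidHom).map (MulAut.conj h).toMonoidHom =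
      V.map (MulAut.conj (h * g)).toMonoidHom := by
  rw [Subgroup.map_map]
  congr 1
  ext x
  simp [mul_assoc]

theorem map_conj_symm {G : Type*} [Group G] {V W : Subgroup G} {g : G}
    (h : V.map (MulAut.conj g).toMonoidHom = W) : W.map (MulAut.conj g⁻¹).toMonoidHom = V := by
  rw [← h, map_conj_mul, inv_mul_cancel]
  ext x
  simp

variable (hodd : Fintype.card F % 2 = 1)
include hodd

theorem four_flip {r : L} (hr : r ∈ rot F) : four hodd (J * r) = four hodd r := by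
  obtain ⟨hV, hx, hy, h1, h2, h3⟩ := four_isKlein hodd hr
  obtain ⟨-, -, -, -, h2', h3'⟩ := four_isKlein hodd ((rot F).mul_mem J_mem hr)
  rw [← x₀_mul hodd r] at h2' h3'
  rw [four, ← x₀_mul hodd r]
  exact (KleinNormalizer.eq_closure hV hx ((four hodd r).mul_mem hx hy) h1 h2' h3').symm

theorem four_conj_of_class {r t : L} (hr : r ∈ rot F) (ht : t ∈ rot F) (h : r ∈ sqRot ↔ t ∈ sqRot) :
    ∃ g : PL, (four hodd r).map (MulAut.conj g).toMonoidHom = four hodd t := by
  obtain ⟨g, h1, h2⟩ := exists_conj_of_class hodd hr ht h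
  exact ⟨g, map_four hodd h1 h2⟩

theorem one_sq : (1 : L) ∈ sqRot := ⟨1, one_mem _, one_mul _⟩

theorem exists_nonsq : ∃ r ∈ rot F, r ∉ sqRot := by
  by_contra hc
  push Not at hc
  have hsurj : Function.Surjective (fun s : rot F => s * s) := fun t => by
    obtain ⟨s, hs, h⟩ := hc t.1 t.2
    exact ⟨⟨s, hs⟩, Subtype.ext h⟩
  have hinj := Finite.injective_iff_surjective.2 hsurj
  have h : (⟨-1, neg_one_mem⟩ : rot F) = 1 := hinj (Subtype.ext (by simp))
  exact neg_one_ne_one hodd (congrArg Subtype.val h)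

theorem four_not_conj {r : L} (hr : r ∈ rot F) (hns : r ∉ sqRot) (hJ : (J : L) ∈ sqRot) :
    ¬ ∃ g : PL, (four hodd 1).map (MulAut.conj g).toMonoidHom = four hodd r := by
  rintro ⟨g, hg⟩
  obtain ⟨hV, hx, hy, h1, h2, h3⟩ := four_isKlein hodd (one_mem (rot F))
  obtain ⟨hW, wx, wy, w1, w2, w3⟩ := four_isKlein hodd hr
  obtain ⟨w, hw1, hw2⟩ := exists_cycle hodd hr
  have hwN : (four hodd r).map (MulAut.conj w).toMonoidHom = four hodd r := by
    have hK := KleinNormalizer.map_isKleinFour hW (MulAut.conj w).toMonoidHom (MulAut.conj w).injective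
    have hab : x₀ * π (r * K₀ hodd) ∈ four hodd r := (four hodd r).mul_mem wx wy
    have hne : π (r * K₀ hodd) ≠ x₀ * π (r * K₀ hodd) := fun h => w1 (mul_eq_right.1 h.symm)
    have hne1 : x₀ * π (r * K₀ hodd) ≠ 1 := fun h => w2 (by
      have := (conj_eq_one_iff (a := w) (b := π (r * K₀ hodd))).1 (hw2.trans h)
      exact this)
    rw [KleinNormalizer.eq_closure hK ⟨_, wx, hw1⟩ ⟨_, wy, hw2⟩ w2 hne1 hne,
      KleinNormalizer.eq_closure hW wy hab w2 hne1 hne]
  have hzmem : g * x₀ * g⁻¹ ∈ four hodd r := hg ▸ ⟨_, hx, rfl⟩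
  have hz1 : g * x₀ * g⁻¹ ≠ 1 := fun h => h1 (conj_eq_one_iff.1 h)
  obtain ⟨n, hn, hnz⟩ : ∃ n : PL, (four hodd r).map (MulAut.conj n).toMonoidHom = four hodd r ∧
      n * (g * x₀ * g⁻¹) * n⁻¹ = x₀ := by
    rcases mem_cases hW wx wy w1 w2 w3 hzmem with h | h | h | h
    · exact absurd h hz1
    · exact ⟨1, by ext; simp, by rw [h]; simp⟩
    · refine ⟨w⁻¹, map_conj_symm hwN, ?_⟩
      rw [h, ← hw1]; group
    · refine ⟨w⁻¹ * w⁻¹, by rw [← map_conj_mul, map_conj_symm hwN, map_conj_symm hwN], ?_⟩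
      rw [h, ← hw2, ← hw1]; group
  have hh : (four hodd 1).map (MulAut.conj (n * g)).toMonoidHom = four hodd r := by
    rw [← map_conj_mul, hg, hn]
  have hfix : n * g * x₀ * (n * g)⁻¹ = x₀ := by
    rw [show n * g * x₀ * (n * g)⁻¹ = n * (g * x₀ * g⁻¹) * n⁻¹ by group, hnz]
  have hym : n * g * π (1 * K₀ hodd) * (n * g)⁻¹ ∈ four hodd r := hh ▸ ⟨_, hy, rfl⟩
  rcases mem_cases hW wx wy w1 w2 w3 hym with h | h | h | h
  · exact h2 (conj_eq_one_iff.1 h)
  · exact h3 ((MulAut.conj (n * g)).injective (h.trans hfix.symm)).symm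
  · exact hns ((class_iff hodd (one_mem _) hr hfix h).1 (one_sq hodd))
  · rw [x₀_mul hodd] at h
    exact hns ((sq_iff_of_mul hodd hJ).1
      ((class_iff hodd (one_mem _) ((rot F).mul_mem J_mem hr) hfix h).1 (one_sq hodd)))

theorem classes :
    (¬ 8 ∣ Nat.card (rot F) → ∀ V W : Subgroup PL, IsKleinFour V → IsKleinFour W →
        ∃ g : PL, W = V.map (MulAut.conj g).toMonoidHom) ∧
      (8 ∣ Nat.card (rot F) → ∃ V₁ V₂ : Subgroup PL, IsKleinFour V₁ ∧ IsKleinFour V₂ ∧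
        (¬ ∃ g : PL, V₂ = V₁.map (MulAut.conj g).toMonoidHom) ∧
        ∀ W : Subgroup PL, IsKleinFour W → (∃ g : PL, W = V₁.map (MulAut.conj g).toMonoidHom) ∨
          ∃ g : PL, W = V₂.map (MulAut.conj g).toMonoidHom) := by
  constructor
  · intro h8
    have hJ : (J : L) ∉ sqRot := fun h => h8 ((eight_dvd_iff hodd).2 h)
    have key : ∀ V : Subgroup PL, IsKleinFour V →
        ∃ g : PL, V.map (MulAut.conj g).toMonoidHom = four hodd 1 := by
      intro V hV
      obtain ⟨g, r, hr, hg⟩ := exists_four hodd hV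
      obtain ⟨t, ht, hts, hfour⟩ : ∃ t ∈ rot F, t ∈ sqRot ∧ four hodd r = four hodd t := by
        by_cases hsq : r ∈ sqRot
        · exact ⟨r, hr, hsq, rfl⟩
        · exact ⟨J * r, (rot F).mul_mem J_mem hr, sq_mul_of_not hodd J_mem hr hJ hsq, (four_flip hodd hr).symm⟩
      obtain ⟨h, hh⟩ := four_conj_of_class hodd ht (one_mem (rot F)) (iff_of_true hts (one_sq hodd))
      exact ⟨h * g, by rw [← map_conj_mul, hg, hfour, hh]⟩
    intro V W hV hW
    obtain ⟨g, hg⟩ := key V hV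
    obtain ⟨h, hh⟩ := key W hW
    exact ⟨h⁻¹ * g, by rw [← map_conj_mul, hg, map_conj_symm hh]⟩
  · intro h8
    have hJ := (eight_dvd_iff hodd).1 h8
    obtain ⟨r, hr, hns⟩ := exists_nonsq hodd
    refine ⟨four hodd 1, four hodd r, (four_isKlein hodd (one_mem _)).1, (four_isKlein hodd hr).1,
      fun ⟨g, hg⟩ => four_not_conj hodd hr hns hJ ⟨g, hg.symm⟩, fun W hW => ?_⟩
    obtain ⟨g, t, ht, hg⟩ := exists_four hodd hW
    by_cases hsq : t ∈ sqRot
    · obtain ⟨h, hh⟩ := four_conj_of_class hodd (one_mem (rot F)) ht (iff_of_true (one_sq hodd) hsq)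
      exact Or.inl ⟨g⁻¹ * h, by rw [← map_conj_mul, hh, map_conj_symm hg]⟩
    · obtain ⟨h, hh⟩ := four_conj_of_class hodd hr ht (iff_of_false hns hsq)
      exact Or.inr ⟨g⁻¹ * h, by rw [← map_conj_mul, hh, map_conj_symm hg]⟩

end CfsgLib.PSL2Klein
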